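import Mathlib.RingTheory.IntegralClosure.IntegrallyClosed
import Mathlib.RingTheory.Localization.FractionRing

/-!
# Integrally closed subrings
-/

set_option autoImplicit false

universe u

namespace Groth.L16.CurveCompletion

theorem exists_eq_of_isIntegral {A B K L : Type u} [CommRing A] [CommRing B] [IsDomain A] [IsDomain B]
    [IsIntegrallyClosed B] [Algebra A B] [Field K] [Algebra A K] [IsFractionRing A K]
    [Field L] [Algebra B L] [IsFractionRing B L] (hinj : Function.Injective (algebraMap A B))
    (h : ∀ b : B, IsIntegral A b → ∃ a, algebraMap A B a = b) {x : K} (hx : IsIntegral A x) :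
    ∃ a, algebraMap A K a = x := by
  have hinjL : Function.Injective ((algebraMap B L).comp (algebraMap A B)) :=
    (IsFractionRing.injective B L).comp hinj
  let φ : K →+* L := IsFractionRing.lift hinjL
  obtain ⟨p, hp, hp'⟩ := hx
  have h1 : φ.comp (algebraMap A K) = (algebraMap B L).comp (algebraMap A B) :=
    RingHom.ext fun a => IsFractionRing.lift_algebraMap hinjL a
  have h2 : ((algebraMap B L).comp (algebraMap A B)) = φ.comp (algebraMap A K) := h1.symm
  have e1 : Polynomial.eval₂ ((algebraMap B L).comp (algebraMap A B)) (φ x) p = 0 := by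
    rw [h2, ← Polynomial.hom_eval₂, hp', map_zero]
  have hxi : IsIntegral B (φ x) := by
    refine ⟨p.map (algebraMap A B), hp.map _, ?_⟩
    rw [Polynomial.eval₂_map]
    exact e1
  obtain ⟨b, hb⟩ := IsIntegrallyClosed.isIntegral_iff.1 hxi
  have hbA : IsIntegral A b := by
    refine ⟨p, hp, IsFractionRing.injective B L ?_⟩
    rw [Polynomial.hom_eval₂, map_zero, hb]
    exact e1
  obtain ⟨a, ha⟩ := h b hbA
  refine ⟨a, φ.injective ?_⟩
  rw [← RingHom.comp_apply, h1, RingHom.comp_apply, ha, hb]

theorem isIntegrallyClosed_of_subring {A B : Type u} [CommRing A] [CommRing B] [IsDomain B]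
    [IsIntegrallyClosed B] [Algebra A B] (hinj : Function.Injective (algebraMap A B))
    (h : ∀ b : B, IsIntegral A b → ∃ a, algebraMap A B a = b) : IsIntegrallyClosed A := by
  haveI : IsDomain A := hinj.isDomain
  exact (isIntegrallyClosed_iff (FractionRing A)).2 fun hx =>
    exists_eq_of_isIntegral (L := FractionRing B) hinj h hx

/-- The integral closure in an integrally closed domain is integrally closed. -/
theorem isIntegrallyClosed_integralClosure (R B : Type u) [CommRing R] [CommRing B] [IsDomain B]
    [IsIntegrallyClosed B] [Algebra R B] : IsIntegrallyClosed (integralClosure R B) :=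
  isIntegrallyClosed_of_subring (A := integralClosure R B) (B := B) Subtype.val_injective
    fun b hb => ⟨⟨b, isIntegral_trans b hb⟩, rfl⟩

end Groth.L16.CurveCompletion
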