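import Groth.Prelude.Def_Pi1
import Mathlib.AlgebraicGeometry.Normalization
import Mathlib.AlgebraicGeometry.FunctionField
import Mathlib.RingTheory.IntegralClosure.IntegrallyClosed
import Mathlib.RingTheory.Localization.FractionRing
import Groth.Agent.L19.NormalSections
import Groth.Agent.L16.CurveCompletion.Ring

/-!
# Relative normalisations in normal schemes are normal
-/

set_option autoImplicit false
set_option backward.isDefEq.respectTransparency.types false
set_option backward.isDefEq.respectTransparency false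

universe u

open CategoryTheory AlgebraicGeometry TopologicalSpace

namespace Groth.L16.CurveCompletion

/-- The relative normalisation in a normal integral scheme is normal. -/
theorem isNormalScheme_normalization {X Y : Scheme.{u}} [IsIntegral X] (f : X ⟶ Y)
    [QuasiCompact f] [QuasiSeparated f] [IsDominant f] [PreirreducibleSpace Y]
    (hX : ∀ U : X.Opens, Nonempty U → IsIntegrallyClosed Γ(X, U)) :
    Pi1.IsNormalScheme f.normalization := by
  intro y
  obtain ⟨_, ⟨U, hU, rfl⟩, hyU, -⟩ :=
    Y.isBasis_affineOpens.exists_subset_of_mem_open (Set.mem_univ (f.fromNormalization y)) isOpen_univ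
  haveI : Nonempty ↥(f ⁻¹ᵁ U) := by
    obtain ⟨x, hx⟩ := f.denseRange.exists_mem_open U.2 ⟨_, hyU⟩
    exact ⟨⟨x, hx⟩⟩
  haveI : Nonempty (f ⁻¹ᵁ U).toScheme := ‹Nonempty ↥(f ⁻¹ᵁ U)›
  haveI : IsDomain Γ(X, f ⁻¹ᵁ U) := inferInstance
  haveI := hX (f ⁻¹ᵁ U) ‹_›
  letI := (f.app U).hom.toAlgebra
  let e := (f.normalizationObjIso hU).commRingCatIsoToRingEquiv
  haveI : IsIntegrallyClosed (integralClosure Γ(Y, U) Γ(X, f ⁻¹ᵁ U)) :=
    isIntegrallyClosed_integralClosure _ _
  haveI : IsDomain Γ(f.normalization, f.fromNormalization ⁻¹ᵁ U) := e.toMulEquiv.isDomain _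
  haveI : IsIntegrallyClosed Γ(f.normalization, f.fromNormalization ⁻¹ᵁ U) :=
    IsIntegrallyClosed.of_equiv e.symm
  letI := f.normalization.presheaf.algebra_section_stalk (⟨y, hyU⟩ : ↥(f.fromNormalization ⁻¹ᵁ U))
  haveI := (hU.preimage f.fromNormalization).isLocalization_stalk ⟨y, hyU⟩
  exact ⟨inferInstance, isIntegrallyClosed_of_isLocalization (f.normalization.presheaf.stalk y)
    ((hU.preimage f.fromNormalization).primeIdealOf ⟨y, hyU⟩).asIdeal.primeCompl
    (Ideal.primeCompl_le_nonZeroDivisors _)⟩

/-- Sections of an integral normal scheme are integrally closed. -/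
theorem isIntegrallyClosed_sections {X : Scheme.{u}} [IsIntegral X]
    (hN : ∀ x : X, IsIntegrallyClosed (X.presheaf.stalk x)) (U : X.Opens) (hU : Nonempty U) :
    IsIntegrallyClosed Γ(X, U) := by
  haveI : Nonempty U.toScheme := hU
  haveI : IsDomain Γ(X, U) := inferInstance
  have hξ : genericPoint X ∈ U :=
    ((genericPoint_spec X).mem_open_set_iff U.2).2 (by simpa using hU)
  let g := X.presheaf.germ U (genericPoint X) hξ
  have hg : Function.Injective g := germ_injective_of_isIntegral X (genericPoint X) hξ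
  rw [isIntegrallyClosed_iff (FractionRing Γ(X, U))]
  intro x hx
  let φ : FractionRing Γ(X, U) →+* X.functionField := IsFractionRing.lift (g := g.hom) hg
  have h1 : φ.comp (algebraMap Γ(X, U) (FractionRing Γ(X, U))) = g.hom :=
    RingHom.ext fun a => IsFractionRing.lift_algebraMap hg a
  obtain ⟨p, hp, hp'⟩ := hx
  obtain ⟨t, ht⟩ := Groth.L19.NormalSec.exists_section_of_isIntegral hN U hξ (RingHom.id _) (φ x)
    ⟨p, hp, by rw [RingHom.comp_id, ← h1, ← Polynomial.hom_eval₂, hp', map_zero]⟩
  exact ⟨t, φ.injective ((RingHom.congr_fun h1 t).trans ht)⟩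

end Groth.L16.CurveCompletion
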